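import Groth.Agent.Lib.CohDer19.Unit
import Groth.Agent.Lib.CohDer19.DerAdj
import Groth.Prelude.Def_SixF1

/-!
# Composition of bounded below derived functors when the first one preserves injectives
-/

set_option autoImplicit false
set_option backward.isDefEq.respectTransparency false
set_option linter.style.haveILetI false
universe w₁ w₂ w₃ v₁ v₂ v₃ u₁ u₂ u₃

open CategoryTheory CategoryTheory.Limits

noncomputable section

namespace GrothLib.PlusComp19

variable {A : Type u₁} [Category.{v₁} A] [Abelian A] {B : Type u₂} [Category.{v₂} B] [Abelian B]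
  {C : Type u₃} [Category.{v₃} C] [Abelian C] [HasDerivedCategory.{w₁} A] [HasDerivedCategory.{w₂} B]
  [HasDerivedCategory.{w₃} C] [EnoughInjectives A] [EnoughInjectives B]
  {F : A ⥤ B} {G : B ⥤ C} {H : A ⥤ C} [F.Additive] [G.Additive] [H.Additive] (θ : H ⟶ F ⋙ G) [IsIso θ]

/-- Bounded below objects have injective resolutions. -/
theorem exists_injective_rep (X : DerivedCategory.Plus A) :
    ∃ M : CochainComplex.Plus A, (∀ n, Injective (M.obj.X n)) ∧
      Nonempty (DerivedCategory.Plus.Qh.obj ((HomotopyCategory.Plus.quotient A).obj M) ≅ X) := by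
  haveI : DerivedCategory.Plus.Qh.EssSurj (C := HomotopyCategory.Plus A) :=
    Localization.essSurj _ (HomotopyCategory.Plus.quasiIso A)
  let K := DerivedCategory.Plus.Qh.objPreimage X
  let e : DerivedCategory.Plus.Qh.obj K ≅ X := DerivedCategory.Plus.Qh.objObjPreimageIso X
  clear_value e
  clear_value K
  obtain ⟨⟨K⟩, hp⟩ := K
  obtain ⟨a, ha⟩ : CochainComplex.plus A K := (HomotopyCategory.plus_quotient_obj_iff K).1 hp
  obtain ⟨L, hL, i, hi⟩ := CochainComplex.Plus.exists_quasiIso_injective (⟨K, a, ha⟩ : CochainComplex.Plus A) a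
  haveI : QuasiIso i.hom := hi
  let q := (HomotopyCategory.Plus.quotient A).map i
  haveI h₁ : IsIso (DerivedCategory.Plus.Qh.map q) := by
    refine (isIso_iff_of_reflects_iso _ DerivedCategory.Plus.ι).1 ?_
    exact (NatIso.isIso_map_iff (DerivedCategory.quotientCompQhIso A) i.hom).2 inferInstance
  exact ⟨_, fun n => inferInstanceAs (Injective ((InjectiveObject.ι A).obj (L.obj.X n))),
    ⟨(asIso (DerivedCategory.Plus.Qh.map q)).symm ≪≫ e⟩⟩

/-- **Grothendieck composition.** -/
theorem isIso_rPlusDesc₂ (hFinj : ∀ Z : A, Injective Z → Injective (F.obj Z)) : IsIso (EtSix.rPlusDesc₂ θ) := by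
  haveI : ∀ X, IsIso ((EtSix.rPlusDesc₂ θ).app X) := fun X => by
    obtain ⟨M, hM, ⟨e⟩⟩ := exists_injective_rep X
    rw [← NatTrans.isIso_app_iff_of_iso _ e]
    let K := (HomotopyCategory.Plus.quotient A).obj M
    haveI hH : IsIso (H.rightDerivedFunctorPlusUnit.app K) := CohDer19.isIso_unit_of_injective H M hM
    haveI hF : IsIso (F.rightDerivedFunctorPlusUnit.app K) := CohDer19.isIso_unit_of_injective F M hM
    haveI hG : IsIso (G.rightDerivedFunctorPlusUnit.app (F.mapHomotopyCategoryPlus.obj K)) :=
      CohDer19.isIso_unit_of_injective G (F.mapCochainComplexPlus.obj M) fun n => by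
        exact hFinj _ (hM n)
    haveI : IsIso ((EtSix.plusNatTrans θ).app K) := by
      haveI hι : IsIso ((HomotopyCategory.Plus.ι C).map ((EtSix.plusNatTrans θ).app K)) := by
        have e : Functor.whiskerRight (EtSix.plusNatTrans θ) (HomotopyCategory.plus C).ι =
            Functor.whiskerLeft (HomotopyCategory.Plus.ι A) (NatTrans.mapHomotopyCategory θ (ComplexShape.up ℤ)) :=
          ((HomotopyCategory.plus C).fullyFaithfulι.whiskeringRight (HomotopyCategory.Plus A)).map_preimage _
        have e' := congr_app e K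
        show IsIso ((Functor.whiskerRight (EtSix.plusNatTrans θ) (HomotopyCategory.plus C).ι).app K)
        rw [e']
        haveI : IsIso ((NatTrans.mapHomologicalComplex θ (ComplexShape.up ℤ)).app M.obj) := by
          haveI : ∀ i, IsIso (((NatTrans.mapHomologicalComplex θ (ComplexShape.up ℤ)).app M.obj).f i) :=
            fun i => inferInstanceAs (IsIso (θ.app (M.obj.X i)))
          exact HomologicalComplex.Hom.isIso_of_components _
        exact Functor.map_isIso (HomotopyCategory.quotient C (ComplexShape.up ℤ))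
          ((NatTrans.mapHomologicalComplex θ (ComplexShape.up ℤ)).app M.obj)
      exact isIso_of_reflects_iso _ (HomotopyCategory.Plus.ι C)
    haveI hU : IsIso ((EtSix.rPlusUnit₂ θ).app K) := by
      simp only [EtSix.rPlusUnit₂, NatTrans.comp_app, Functor.whiskerLeft_app, Functor.whiskerRight_app,
        Functor.associator_hom_app, Functor.associator_inv_app]
      infer_instance
    have h := (H.rightDerivedFunctorPlus.rightDerived_fac_app H.rightDerivedFunctorPlusUnit
      (HomotopyCategory.Plus.quasiIso A) (F.rightDerivedFunctorPlus ⋙ G.rightDerivedFunctorPlus) (EtSix.rPlusUnit₂ θ)) K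
    haveI : IsIso (H.rightDerivedFunctorPlusUnit.app K ≫ (EtSix.rPlusDesc₂ θ).app (DerivedCategory.Plus.Qh.obj K)) := by
      rw [EtSix.rPlusDesc₂, h]; exact hU
    exact IsIso.of_isIso_comp_left (H.rightDerivedFunctorPlusUnit.app K) _
  exact NatIso.isIso_of_isIso_app _

end GrothLib.PlusComp19
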