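import Groth.Agent.Lib.KInj.Derived
import Groth.Agent.Lib.KInj.Adjoint
import Groth.Agent.Lib.EtDer.HpullComp
import Groth.Prelude.Def_SixF1

/-!
# Composition of unbounded derived direct images for étale abelian sheaves
-/

set_option autoImplicit false
set_option backward.isDefEq.respectTransparency false
set_option linter.style.haveILetI false
universe u

open CategoryTheory CategoryTheory.Limits AlgebraicGeometry HomotopyCategory
attribute [local instance] HasDerivedCategory.standard

noncomputable section

namespace GrothLib.PlusComp19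

theorem isIso_derivedUnit.{v, u₁} {A : Type u₁} [Category.{v} A] [Abelian A] [IsGrothendieckAbelian.{v} A]
    [HasDerivedCategory A] {E : Type*} [Category E] (F : HomotopyCategory A (ComplexShape.up ℤ) ⥤ E)
    [F.HasRightDerivedFunctor (HomotopyCategory.quasiIso A (ComplexShape.up ℤ))]
    {X : HomotopyCategory A (ComplexShape.up ℤ)} (hX : (subcategoryAcyclic A).rightOrthogonal X) :
    IsIso ((F.totalRightDerivedUnit DerivedCategory.Qh
      (HomotopyCategory.quasiIso A (ComplexShape.up ℤ))).app X) := by
  haveI := KInj.isIso_unit_of_rightOrthogonal hX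
  haveI : IsIso ((F.totalRightDerivedUnit DerivedCategory.Qh
      (HomotopyCategory.quasiIso A (ComplexShape.up ℤ))).app X ≫
      (KInj.totalRightDerivedIso F).hom.app (DerivedCategory.Qh.obj X)) := by
    rw [KInj.totalRightDerivedUnit_iso_hom]
    infer_instance
  exact IsIso.of_isIso_comp_right _ ((KInj.totalRightDerivedIso F).hom.app (DerivedCategory.Qh.obj X))

variable {X Y Z : Scheme.{u}} (f : X ⟶ Y) (g : Y ⟶ Z)

theorem isIso_compMap [DCoh.HasRpushEt X f] [DCoh.HasRpushEt Y g] [DCoh.HasRpushEt X (f ≫ g)] :
    IsIso (EtSix.compMap f g) := by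
  haveI : PreservesFiniteLimits (EtCoh.pull f) := EtDer.pullFL f
  haveI : ∀ E, IsIso ((EtSix.compMap f g).app E) := fun E => by
    let ε : DerivedCategory.Qh.obj ((KInj.res (EtCoh.Ab X)).obj E) ≅ E :=
      asIso ((KInj.resAdj (EtCoh.Ab X)).counit.app E)
    rw [← NatTrans.isIso_app_iff_of_iso _ ε]
    let K := (KInj.res (EtCoh.Ab X)).obj E
    have hK : (subcategoryAcyclic _).rightOrthogonal K := KInj.rightOrthogonal_res E
    haveI := isIso_derivedUnit (DCoh.pushEtKh X (f ≫ g)) hK
    haveI := isIso_derivedUnit (DCoh.pushEtKh X f) hK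
    haveI : IsIso (((DCoh.pushEtKh Y g).totalRightDerivedUnit DerivedCategory.Qh
        (HomotopyCategory.quasiIso (EtCoh.Ab Y) (ComplexShape.up ℤ))).app
        (((EtCoh.push f).mapHomotopyCategory (ComplexShape.up ℤ)).obj K)) :=
      isIso_derivedUnit (DCoh.pushEtKh Y g) (KInj.rightOrthogonal_map (EtCoh.pullPushAdj f) hK)
    haveI : IsIso ((NatTrans.mapHomotopyCategory (EtCoh.pushComp g f).inv (ComplexShape.up ℤ)).app K) := by
      haveI : ∀ i, IsIso (((NatTrans.mapHomologicalComplex (EtCoh.pushComp g f).inv (ComplexShape.up ℤ)).app K.as).f i) :=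
        fun i => inferInstanceAs (IsIso ((EtCoh.pushComp g f).inv.app (K.as.X i)))
      haveI := HomologicalComplex.Hom.isIso_of_components
        ((NatTrans.mapHomologicalComplex (EtCoh.pushComp g f).inv (ComplexShape.up ℤ)).app K.as)
      exact Functor.map_isIso (HomotopyCategory.quotient (EtCoh.Ab Z) (ComplexShape.up ℤ))
          ((NatTrans.mapHomologicalComplex (EtCoh.pushComp g f).inv (ComplexShape.up ℤ)).app K.as)
    haveI hU : IsIso ((EtSix.compUnit f g).app K) := by
      simp only [EtSix.compUnit, NatTrans.comp_app, Functor.whiskerLeft_app, Functor.whiskerRight_app,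
        Functor.associator_hom_app, Functor.associator_inv_app]
      infer_instance
    haveI : IsIso (((DCoh.pushEtKh X (f ≫ g)).totalRightDerivedUnit DerivedCategory.Qh
        (HomotopyCategory.quasiIso (EtCoh.Ab X) (ComplexShape.up ℤ))).app K ≫
        (EtSix.compMap f g).app (DerivedCategory.Qh.obj K)) := by
      rw [EtSix.compMap, Functor.rightDerived_fac_app]
      exact hU
    exact IsIso.of_isIso_comp_left (((DCoh.pushEtKh X (f ≫ g)).totalRightDerivedUnit DerivedCategory.Qh
        (HomotopyCategory.quasiIso (EtCoh.Ab X) (ComplexShape.up ℤ))).app K) _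
  exact NatIso.isIso_of_isIso_app _

end GrothLib.PlusComp19
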